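import Cfsg.Agent.H3.DS.Fi22Deg
import Cfsg.Agent.H841.PB.FiTwentyTwo
import Cfsg.Agent.H704.Elim

/-!
# S4906, the row of `Fi₂₂` (helper3)
-/

set_option autoImplicit false

open Cfsg

namespace Cfsg.Agent.H3.DS.Fi22

open Cfsg.Agent.H704 Cfsg.Agent.LThreeFi22 Cfsg.Agent.H841.PB

universe u

/-- `Fi₂₂` has irreducible characters of degrees 429 and 3080. -/
theorem exists_deg {K : Type u} [Group K] [Finite K] (h : Spor.IsoFi22 K) :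
    (∃ ψ : K → ℂ, IsIrrCharacter K ψ ∧ ψ 1 = ((429 : ℕ) : ℂ)) ∧
      ∃ ψ : K → ℂ, IsIrrCharacter K ψ ∧ ψ 1 = ((3080 : ℕ) : ℂ) := by
  obtain ⟨e⟩ := h
  have C := Inst.ctx e
  let _ := H870.IMFi22.act C
  have hR := H870.IMFi22.r3 C
  obtain ⟨χ₁, χ₂, h1, h2, -, -, -⟩ := rank3_of hR (a := 429) (b := 3080) (by norm_num)
    (fun f g D h1 h2 h3 => FiTwentyTwo.arith h1 h2 h3)
  refine ⟨⟨χ₁, χ₁.2, ?_⟩, ⟨χ₂, χ₂.2, ?_⟩⟩
  · rw [← h1]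
    exact Blocks.Knorr.charDegree_eq χ₁.2
  · rw [← h2]
    exact Blocks.Knorr.charDegree_eq χ₂.2

/-- **The row of `Fi₂₂`.** -/
theorem row_fi22 {K : Type u} [Group K] [Finite K] (h : Spor.IsoFi22 K) {n : ℕ} (hn : 5 ≤ n) (hd : DegOK n K) :
    False := by
  obtain ⟨⟨ψ, h1, h2⟩, φ, h3, h4⟩ := exists_deg h
  obtain ⟨d, k1, k2⟩ := hd.nat h1 h2
  obtain ⟨e, k3, k4⟩ := hd.nat h3 h4
  exact no_both hn k1 k3 k2 k4

end Cfsg.Agent.H3.DS.Fi22
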