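import Cfsg.Agent.H704.EnumP
import Cfsg.Agent.H704.LowDegree

/-!
# 429, 858 and 3080, 6160 are not simultaneously degrees of `S_n` (helper3, for S4906)
-/

set_option autoImplicit false

namespace Cfsg.Agent.H3.DS.Fi22

open Cfsg.Agent.H704

/-- the check for 429, 858 -/
def chkA (d : ℕ) : Bool := !(Nat.beq d 429) && !(Nat.beq d 858)

/-- the check for 3080, 6160 -/
def chkB (d : ℕ) : Bool := !(Nat.beq d 3080) && !(Nat.beq d 6160)

theorem of_chkA {d : ℕ} (h : chkA d = true) : ¬ (d = 429 ∨ d = 858) := by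
  rintro (rfl | rfl) <;> revert h <;> decide

theorem of_chkB {d : ℕ} (h : chkB d = true) : ¬ (d = 3080 ∨ d = 6160) := by
  rintro (rfl | rfl) <;> revert h <;> decide

theorem full {n d : ℕ} (h : IsDeg n d) (hc : go (fun _ H => chkA (Nat.div n.factorial H)) (n + 1) n 1 [] 1 = true) :
    ¬ (d = 429 ∨ d = 858) :=
  of_chkA (check_of_isDeg hc h)

theorem fullB {n d : ℕ} (h : IsDeg n d) (hc : go (fun _ H => chkB (Nat.div n.factorial H)) (n + 1) n 1 [] 1 = true) :
    ¬ (d = 3080 ∨ d = 6160) :=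
  of_chkB (check_of_isDeg hc h)

theorem part {n d : ℕ} (r E : ℕ) (h : IsDeg n d) (hr : r.Prime) (h1 : ¬ r ∣ 858) (hrn : r ≤ n) (hE : n = r + E)
    (hc : goP E (fun H => chkA (Nat.div n.factorial H)) (n + 1) n 1 [] 1 = true) :
    ¬ (d = 429 ∨ d = 858) := by
  intro hd
  refine of_chkA (check_of_isDegP hr hrn hE hc h ?_) hd
  intro h2
  apply h1
  rcases hd with rfl | rfl
  · exact h2.trans ⟨2, by norm_num⟩
  · exact h2

theorem t5 {d : ℕ} (h : IsDeg 5 d) : ¬ (d = 429 ∨ d = 858) := full h (by decide +kernel)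
theorem t6 {d : ℕ} (h : IsDeg 6 d) : ¬ (d = 429 ∨ d = 858) := full h (by decide +kernel)
theorem t7 {d : ℕ} (h : IsDeg 7 d) : ¬ (d = 429 ∨ d = 858) := full h (by decide +kernel)
theorem t8 {d : ℕ} (h : IsDeg 8 d) : ¬ (d = 429 ∨ d = 858) := full h (by decide +kernel)
theorem t9 {d : ℕ} (h : IsDeg 9 d) : ¬ (d = 429 ∨ d = 858) := full h (by decide +kernel)
theorem t10 {d : ℕ} (h : IsDeg 10 d) : ¬ (d = 429 ∨ d = 858) := full h (by decide +kernel)
theorem t11 {d : ℕ} (h : IsDeg 11 d) : ¬ (d = 429 ∨ d = 858) := full h (by decide +kernel)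
theorem t12 {d : ℕ} (h : IsDeg 12 d) : ¬ (d = 429 ∨ d = 858) := full h (by decide +kernel)
theorem t13 {d : ℕ} (h : IsDeg 13 d) : ¬ (d = 3080 ∨ d = 6160) := fullB h (by decide +kernel)
theorem t14 {d : ℕ} (h : IsDeg 14 d) : ¬ (d = 3080 ∨ d = 6160) := fullB h (by decide +kernel)
theorem t15 {d : ℕ} (h : IsDeg 15 d) : ¬ (d = 429 ∨ d = 858) := full h (by decide +kernel)
theorem t16 {d : ℕ} (h : IsDeg 16 d) : ¬ (d = 429 ∨ d = 858) := full h (by decide +kernel)
theorem t17 {d : ℕ} (h : IsDeg 17 d) : ¬ (d = 429 ∨ d = 858) :=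
  part 17 0 h (by norm_num) (by norm_num) (by norm_num) (by norm_num) (by decide +kernel)
theorem t18 {d : ℕ} (h : IsDeg 18 d) : ¬ (d = 429 ∨ d = 858) :=
  part 17 1 h (by norm_num) (by norm_num) (by norm_num) (by norm_num) (by decide +kernel)
theorem t19 {d : ℕ} (h : IsDeg 19 d) : ¬ (d = 429 ∨ d = 858) :=
  part 19 0 h (by norm_num) (by norm_num) (by norm_num) (by norm_num) (by decide +kernel)
theorem t20 {d : ℕ} (h : IsDeg 20 d) : ¬ (d = 429 ∨ d = 858) :=
  part 19 1 h (by norm_num) (by norm_num) (by norm_num) (by norm_num) (by decide +kernel)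
theorem t21 {d : ℕ} (h : IsDeg 21 d) : ¬ (d = 429 ∨ d = 858) :=
  part 19 2 h (by norm_num) (by norm_num) (by norm_num) (by norm_num) (by decide +kernel)
theorem t22 {d : ℕ} (h : IsDeg 22 d) : ¬ (d = 429 ∨ d = 858) :=
  part 19 3 h (by norm_num) (by norm_num) (by norm_num) (by norm_num) (by decide +kernel)
theorem t23 {d : ℕ} (h : IsDeg 23 d) : ¬ (d = 429 ∨ d = 858) :=
  part 23 0 h (by norm_num) (by norm_num) (by norm_num) (by norm_num) (by decide +kernel)
theorem t24 {d : ℕ} (h : IsDeg 24 d) : ¬ (d = 429 ∨ d = 858) :=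
  part 23 1 h (by norm_num) (by norm_num) (by norm_num) (by norm_num) (by decide +kernel)
theorem t25 {d : ℕ} (h : IsDeg 25 d) : ¬ (d = 429 ∨ d = 858) :=
  part 23 2 h (by norm_num) (by norm_num) (by norm_num) (by norm_num) (by decide +kernel)
theorem t26 {d : ℕ} (h : IsDeg 26 d) : ¬ (d = 429 ∨ d = 858) :=
  part 23 3 h (by norm_num) (by norm_num) (by norm_num) (by norm_num) (by decide +kernel)
theorem t27 {d : ℕ} (h : IsDeg 27 d) : ¬ (d = 429 ∨ d = 858) :=
  part 23 4 h (by norm_num) (by norm_num) (by norm_num) (by norm_num) (by decide +kernel)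
theorem t28 {d : ℕ} (h : IsDeg 28 d) : ¬ (d = 429 ∨ d = 858) :=
  part 23 5 h (by norm_num) (by norm_num) (by norm_num) (by norm_num) (by decide +kernel)
theorem t29 {d : ℕ} (h : IsDeg 29 d) : ¬ (d = 429 ∨ d = 858) :=
  part 29 0 h (by norm_num) (by norm_num) (by norm_num) (by norm_num) (by decide +kernel)
theorem t30 {d : ℕ} (h : IsDeg 30 d) : ¬ (d = 429 ∨ d = 858) :=
  part 29 1 h (by norm_num) (by norm_num) (by norm_num) (by norm_num) (by decide +kernel)
theorem t31 {d : ℕ} (h : IsDeg 31 d) : ¬ (d = 429 ∨ d = 858) :=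
  part 31 0 h (by norm_num) (by norm_num) (by norm_num) (by norm_num) (by decide +kernel)
theorem t32 {d : ℕ} (h : IsDeg 32 d) : ¬ (d = 429 ∨ d = 858) :=
  part 31 1 h (by norm_num) (by norm_num) (by norm_num) (by norm_num) (by decide +kernel)
theorem t33 {d : ℕ} (h : IsDeg 33 d) : ¬ (d = 429 ∨ d = 858) :=
  part 31 2 h (by norm_num) (by norm_num) (by norm_num) (by norm_num) (by decide +kernel)
theorem t34 {d : ℕ} (h : IsDeg 34 d) : ¬ (d = 429 ∨ d = 858) :=
  part 31 3 h (by norm_num) (by norm_num) (by norm_num) (by norm_num) (by decide +kernel)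
theorem t35 {d : ℕ} (h : IsDeg 35 d) : ¬ (d = 429 ∨ d = 858) :=
  part 31 4 h (by norm_num) (by norm_num) (by norm_num) (by norm_num) (by decide +kernel)
theorem t36 {d : ℕ} (h : IsDeg 36 d) : ¬ (d = 429 ∨ d = 858) :=
  part 31 5 h (by norm_num) (by norm_num) (by norm_num) (by norm_num) (by decide +kernel)
theorem t37 {d : ℕ} (h : IsDeg 37 d) : ¬ (d = 429 ∨ d = 858) :=
  part 37 0 h (by norm_num) (by norm_num) (by norm_num) (by norm_num) (by decide +kernel)
theorem t38 {d : ℕ} (h : IsDeg 38 d) : ¬ (d = 429 ∨ d = 858) :=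
  part 37 1 h (by norm_num) (by norm_num) (by norm_num) (by norm_num) (by decide +kernel)
theorem t39 {d : ℕ} (h : IsDeg 39 d) : ¬ (d = 429 ∨ d = 858) :=
  part 37 2 h (by norm_num) (by norm_num) (by norm_num) (by norm_num) (by decide +kernel)
theorem t40 {d : ℕ} (h : IsDeg 40 d) : ¬ (d = 429 ∨ d = 858) :=
  part 37 3 h (by norm_num) (by norm_num) (by norm_num) (by norm_num) (by decide +kernel)
theorem t41 {d : ℕ} (h : IsDeg 41 d) : ¬ (d = 429 ∨ d = 858) :=
  part 41 0 h (by norm_num) (by norm_num) (by norm_num) (by norm_num) (by decide +kernel)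
theorem t42 {d : ℕ} (h : IsDeg 42 d) : ¬ (d = 429 ∨ d = 858) :=
  part 41 1 h (by norm_num) (by norm_num) (by norm_num) (by norm_num) (by decide +kernel)
theorem t43 {d : ℕ} (h : IsDeg 43 d) : ¬ (d = 429 ∨ d = 858) :=
  part 43 0 h (by norm_num) (by norm_num) (by norm_num) (by norm_num) (by decide +kernel)

theorem no_both {n d e : ℕ} (hn : 5 ≤ n) (hd : IsDeg n d) (he : IsDeg n e) (h1 : d = 429 ∨ d = 858)
    (h2 : e = 3080 ∨ e = 6160) : False := by
  have h43 : n ≤ 43 := by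
    by_contra hcon
    push Not at hcon
    have k1 := low_degree (by omega) hd
    have k2 := low_degree (by omega) he
    have h3 : ¬ n * (n - 3) ≤ 2 * d := by
      have h4 : 44 * 41 ≤ n * (n - 3) := Nat.mul_le_mul hcon (by omega)
      omega
    have h5 : n = 430 ∨ n = 859 := by omega
    rcases h5 with rfl | rfl <;> omega
  interval_cases n
  · exact t5 hd h1
  · exact t6 hd h1
  · exact t7 hd h1
  · exact t8 hd h1
  · exact t9 hd h1
  · exact t10 hd h1
  · exact t11 hd h1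
  · exact t12 hd h1
  · exact t13 he h2
  · exact t14 he h2
  · exact t15 hd h1
  · exact t16 hd h1
  · exact t17 hd h1
  · exact t18 hd h1
  · exact t19 hd h1
  · exact t20 hd h1
  · exact t21 hd h1
  · exact t22 hd h1
  · exact t23 hd h1
  · exact t24 hd h1
  · exact t25 hd h1
  · exact t26 hd h1
  · exact t27 hd h1
  · exact t28 hd h1
  · exact t29 hd h1
  · exact t30 hd h1
  · exact t31 hd h1
  · exact t32 hd h1
  · exact t33 hd h1
  · exact t34 hd h1
  · exact t35 hd h1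
  · exact t36 hd h1
  · exact t37 hd h1
  · exact t38 hd h1
  · exact t39 hd h1
  · exact t40 hd h1
  · exact t41 hd h1
  · exact t42 hd h1
  · exact t43 hd h1

end Cfsg.Agent.H3.DS.Fi22
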